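import Cfsg.Agent.Lib.Recog.Walter.SylowFixed.Field
import Cfsg.Agent.Lib.Recog.JankoThompson.Tori
import Cfsg.Agent.Lib.Classical.SmallIso

/-!
Owner: helper4. `PSL(2, q)`: an automorphism of odd `r`-power order which fixes a Sylow `r`-subgroup pointwise
is inner.
-/

set_option autoImplicit false
set_option linter.style.haveILetI false

namespace CfsgLib.Walter.SylowFixed

open Matrix
open CfsgLib.Known.AutPSL

variable {F : Type*} [Field F]

/-- The upper unitriangular elements of `SL(2, F)`. -/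
def upper : Multiplicative F →* SL 2 F where
  toFun c := ⟨!![1, c.toAdd; 0, 1], by simp [Matrix.det_fin_two]⟩
  map_one' := Subtype.ext (by simp [Matrix.one_fin_two])
  map_mul' c d := Subtype.ext (by
    show !![(1 : F), (c * d).toAdd; 0, 1] = !![1, c.toAdd; 0, 1] * !![1, d.toAdd; 0, 1]
    simp [toAdd_mul, add_comm])

theorem semilin_pow (g : GL (Fin 2) F) (σ : F ≃+* F) :
    ∀ n : ℕ, ∃ h : GL (Fin 2) F, semilin g σ ^ n = semilin h (σ ^ n)
  | 0 => ⟨1, by rw [pow_zero, pow_zero]; exact semilin_one.symm⟩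
  | n + 1 => by
    obtain ⟨h, hh⟩ := semilin_pow g σ n
    refine ⟨h * glMap (σ ^ n) g, ?_⟩
    rw [pow_succ, hh, semilin_mul, pow_succ]
    rfl

/-- A semilinear automorphism fixing all upper unitriangular elements has trivial field part. -/
theorem eq_refl_of_upper (g : GL (Fin 2) F) (σ : F ≃+* F)
    (h : ∀ c, semilin g σ (proj 2 F (upper c)) = proj 2 F (upper c)) : σ = RingEquiv.refl F := by
  set M : Matrix (Fin 2) (Fin 2) F := (g : Matrix (Fin 2) (Fin 2) F) with hM
  have key : ∀ c : F, ∃ l : F, !![(1 : F), c; 0, 1] * M = l • (M * !![1, σ c; 0, 1]) := by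
    intro c
    obtain ⟨l, -, hl⟩ := (proj_eq_iff _ _).1 ((semilin_proj g σ _).symm.trans (h (Multiplicative.ofAdd c)))
    refine ⟨l, ?_⟩
    have h1 : !![(1 : F), c; 0, 1] = l • (M * (!![(1 : F), c; 0, 1]).map σ *
        ((g⁻¹ : GL (Fin 2) F) : Matrix (Fin 2) (Fin 2) F)) := hl
    conv_lhs => rw [h1]
    rw [smul_mul_assoc, mul_assoc, hM, Units.inv_mul, mul_one]
    congr 1
    ext i j
    fin_cases i <;> fin_cases j <;> simp [Matrix.mul_apply, Fin.sum_univ_two]
  have hdet : M 0 0 * M 1 1 - M 0 1 * M 1 0 ≠ 0 := by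
    rw [← Matrix.det_fin_two]
    exact (GeneralLinearGroup.det g).ne_zero
  have ent : ∀ c : F, ∃ l : F, M 0 0 + c * M 1 0 = l * M 0 0 ∧
      M 0 1 + c * M 1 1 = l * (M 0 0 * σ c + M 0 1) ∧ M 1 0 = l * M 1 0 := by
    intro c
    obtain ⟨l, hl⟩ := key c
    refine ⟨l, ?_, ?_, ?_⟩
    · simpa [Matrix.mul_apply, Fin.sum_univ_two] using congrFun (congrFun hl 0) 0
    · simpa [Matrix.mul_apply, Fin.sum_univ_two] using congrFun (congrFun hl 0) 1
    · simpa [Matrix.mul_apply, Fin.sum_univ_two] using congrFun (congrFun hl 1) 0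
  have h10 : M 1 0 = 0 := by
    by_contra h10
    obtain ⟨l, h1, -, h3⟩ := ent 1
    have hl : l = 1 := mul_right_cancel₀ h10 (by rw [← h3, one_mul])
    rw [hl, one_mul, one_mul] at h1
    exact h10 (by simpa using h1)
  have h00 : M 0 0 ≠ 0 := fun h00 => hdet (by rw [h00, h10]; ring)
  have hc : ∀ c : F, c * M 1 1 = M 0 0 * σ c := by
    intro c
    obtain ⟨l, h1, h2, -⟩ := ent c
    have hl : l = 1 := mul_right_cancel₀ h00 (by rw [← h1, h10, mul_zero, add_zero, one_mul])
    rw [hl, one_mul] at h2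
    linear_combination h2
  have h11 := hc 1
  rw [map_one, mul_one, one_mul] at h11
  refine RingEquiv.ext fun c => mul_left_cancel₀ h00 ?_
  rw [RingEquiv.refl_apply, ← hc c, h11, mul_comm]

/-- The divisibility used against field automorphisms. -/
theorem mul_dvd_pow_sub_one {r y m s : ℕ} [Fact r.Prime] (hy : 1 ≤ y) (hr : r ∣ y - 1) (hm : m ∣ y - 1)
    (hs : r ∣ s) : r * m ∣ y ^ s - 1 := by
  obtain ⟨w, rfl⟩ := hs
  have h3 := Nat.sub_dvd_pow_sub_pow (y ^ r) 1 w
  rw [one_pow, ← pow_mul] at h3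
  refine dvd_trans ?_ h3
  have h2 : r ∣ ∑ i ∈ Finset.range r, y ^ i := by
    rw [← ZMod.natCast_eq_zero_iff, Nat.cast_sum]
    have hy1 : (y : ZMod r) = 1 := by
      have := (ZMod.natCast_eq_zero_iff (y - 1) r).2 hr
      rwa [Nat.cast_sub hy, Nat.cast_one, sub_eq_zero] at this
    simp [hy1]
  have h1 : y ^ r - 1 = (∑ i ∈ Finset.range r, y ^ i) * (y - 1) := by
    zify [hy, Nat.one_le_pow r y hy]
    exact (geom_sum_mul (y : ℤ) r).symm
  rw [h1]
  exact mul_dvd_mul h2 hm

variable [Fintype F]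

/-- The field part of an automorphism of `r`-power order fixing a Sylow `r`-subgroup is trivial. -/
theorem field_part {r : ℕ} [Fact r.Prime] (hr2 : r ≠ 2) (hrd : r ∣ Nat.card (PSL 2 F))
    (R : Sylow r (PSL 2 F)) (g : GL (Fin 2) F) (σ : F ≃+* F) {k : ℕ} (hσ : σ ^ r ^ k = 1)
    (hfix : ∀ x ∈ (R : Subgroup (PSL 2 F)), semilin g σ x = x) : σ = RingEquiv.refl F := by
  classical
  obtain ⟨p, hc⟩ := CharP.exists F
  haveI := hc
  obtain ⟨f, hp, hF⟩ := FiniteField.card F p
  haveI : Fact p.Prime := ⟨hp⟩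
  have hrP : r.Prime := Fact.out
  have hodd : Odd r := hrP.odd_of_ne_two hr2
  by_cases hrp : r = p
  · subst hrp
    have hU : IsPGroup r ((proj 2 F).comp upper).range := by
      refine IsPGroup.of_surjective ?_ _ ((proj 2 F).comp upper).rangeRestrict_surjective
      exact IsPGroup.of_card (n := f) (by rw [Nat.card_congr Multiplicative.toAdd, Nat.card_eq_fintype_card, hF])
    obtain ⟨P, hP⟩ := hU.exists_le_sylow
    obtain ⟨y, hy⟩ := MulAction.exists_smul_eq (PSL 2 F) P R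
    obtain ⟨s, rfl⟩ := proj_surjective y
    refine eq_refl_of_upper ((Matrix.SpecialLinearGroup.toGL s⁻¹) * g * glMap σ (Matrix.SpecialLinearGroup.toGL s))
      σ fun c => ?_
    have hm : proj 2 F s * proj 2 F (upper c) * (proj 2 F s)⁻¹ ∈ (R : Subgroup (PSL 2 F)) := by
      rw [← hy, Sylow.coe_subgroup_smul]
      exact ⟨_, hP ⟨c, rfl⟩, rfl⟩
    have h1 := hfix _ hm
    have e : semilin ((Matrix.SpecialLinearGroup.toGL s⁻¹) * g * glMap σ (Matrix.SpecialLinearGroup.toGL s)) σ =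
        MulAut.conj (proj 2 F s⁻¹) * semilin g σ * MulAut.conj (proj 2 F s) := by
      rw [conj_eq_semilin, conj_eq_semilin, semilin_mul, semilin_mul]
      rfl
    rw [e, MulAut.mul_apply, MulAut.mul_apply, MulAut.conj_apply, MulAut.conj_apply, h1, map_inv]
    group
  · haveI : IsCyclic (R : Subgroup (PSL 2 F)) :=
      CfsgLib.Recog.JankoThompson.psl_sylow_isCyclic p r hr2 hrp R
    obtain ⟨⟨x, hxR⟩, hx⟩ := IsCyclic.exists_ofOrder_eq_natCard (α := (R : Subgroup (PSL 2 F)))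
    rw [Subgroup.orderOf_mk] at hx
    set m := Nat.card (R : Subgroup (PSL 2 F)) with hm
    obtain ⟨a, hma⟩ := R.2.exists_card_eq
    have hm' : m = r ^ a := hma
    have hrm : r ∣ m := R.dvd_card_of_dvd_card hrd
    have hmo : Odd m := hm' ▸ hodd.pow
    have hpm : ¬ p ∣ m := fun h => hrp
      ((Nat.prime_dvd_prime_iff_eq hp hrP).1 (hp.dvd_of_dvd_pow (hm' ▸ h))).symm
    obtain ⟨A₀, hA₀⟩ := proj_surjective x
    have hsqc : ∀ z ∈ Subgroup.center (SL 2 F), z * z = 1 := by
      intro z hz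
      obtain ⟨c, hc1, hc2⟩ := Matrix.SpecialLinearGroup.mem_center_iff.1 hz
      refine Subtype.ext ?_
      rw [Matrix.SpecialLinearGroup.coe_mul, ← hc2, ← map_mul, ← sq,
        show c ^ 2 = 1 by simpa using hc1, map_one]
      rfl
    obtain ⟨j, hj⟩ := hmo
    have hAm2 : A₀ ^ (2 * m) = 1 := by
      have h1 : A₀ ^ m ∈ Subgroup.center (SL 2 F) := (QuotientGroup.eq_one_iff _).1 (by
        show proj 2 F (A₀ ^ m) = 1
        rw [map_pow, hA₀, ← hx, pow_orderOf_eq_one])
      rw [two_mul, pow_add, hsqc _ h1]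
    set A := A₀ ^ (m + 1) with hA
    have hpA : proj 2 F A = x := by
      rw [hA, map_pow, hA₀, pow_succ, ← hx, pow_orderOf_eq_one, one_mul]
    have hAm : A ^ m = 1 := by
      rw [hA, ← pow_mul, show (m + 1) * m = 2 * m * (j + 1) by rw [hj]; ring, pow_mul, hAm2, one_pow]
    have hoA : orderOf A = m :=
      Nat.dvd_antisymm (orderOf_dvd_of_pow_eq_one hAm) (hx ▸ hpA ▸ orderOf_map_dvd (proj 2 F) A)
    set B := slConjHom g σ A with hB
    have hz : B⁻¹ * A ∈ Subgroup.center (SL 2 F) := (QuotientGroup.eq).1 (by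
      show proj 2 F B = proj 2 F A
      rw [hB, ← semilin_proj, hpA, hfix x hxR])
    have hAB : B = A := by
      have h1 : (B⁻¹ * A) ^ m = 1 := by
        have h2 : B ^ m = 1 := by rw [hB, ← map_pow, hAm, map_one]
        have hcomm : Commute B (B⁻¹ * A) := (Subgroup.mem_center_iff.1 hz B)
        have := hcomm.mul_pow m
        rw [mul_inv_cancel_left, hAm, h2, one_mul] at this
        exact this.symm
      have h3 := hsqc _ hz
      rw [hj, pow_succ, pow_mul, pow_two, h3, one_pow, one_mul] at h1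
      exact inv_mul_eq_one.1 h1
    have htr : σ (A : Matrix (Fin 2) (Fin 2) F).trace = (A : Matrix (Fin 2) (Fin 2) F).trace := by
      conv_rhs => rw [← hAB, hB, coe_slConjHom, Matrix.trace_mul_cycle, Units.inv_mul, one_mul]
      simp [Matrix.trace_fin_two]
    by_contra hne
    have hne' : σ ≠ 1 := hne
    haveI : Finite (F ≃+* F) := Finite.of_injective (fun τ => (τ : F → F)) DFunLike.coe_injective
    obtain ⟨hsf, hK⟩ := exists_fixed_field (p := p) hF f.2 σ rfl
    set s := orderOf σ with hs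
    have hrs : r ∣ s := by
      obtain ⟨i, -, hi⟩ := (Nat.dvd_prime_pow hrP).1 (orderOf_dvd_of_pow_eq_one hσ)
      rcases i with _ | i
      · exact absurd (orderOf_eq_one_iff.1 (hi.trans (pow_zero r))) hne'
      · rw [hs, hi]; exact dvd_pow_self r i.succ_ne_zero
    set e := (f : ℕ) / s with he
    have h1 : m ∣ (p ^ e) ^ 2 - 1 := hoA ▸ orderOf_dvd_of_pow_eq_one
      (pow_sq_card_sub_one (σ.toRingHom.eqLocusField (RingHom.id F)) hK htr (hoA ▸ ⟨j, hj⟩) (hoA ▸ hpm))
    have h2 : r * m ∣ Fintype.card F ^ 2 - 1 := by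
      have := mul_dvd_pow_sub_one (r := r) (s := s) (Nat.one_le_pow _ _ (pow_pos hp.pos e)) (hrm.trans h1) h1 hrs
      rwa [← pow_mul, ← pow_mul, show e * (2 * s) = (f : ℕ) * 2 by
        rw [mul_comm 2 s, ← mul_assoc, he, Nat.div_mul_cancel hsf], pow_mul, ← hF] at this
    have h3 : r * m ∣ Nat.card (PSL 2 F) := by
      have hcop : (r * m).Coprime (Nat.gcd 2 (Fintype.card F - 1)) :=
        (Nat.coprime_two_right.2 (hodd.mul (hm' ▸ hodd.pow))).coprime_dvd_right (Nat.gcd_dvd_left _ _)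
      refine hcop.dvd_of_dvd_mul_left ?_
      rw [CfsgLib.Classical.Two.card_PSL_two]
      exact h2.trans (dvd_mul_left _ _)
    rw [← R.card_mul_index, mul_comm r, ← hm] at h3
    exact R.not_dvd_index ((mul_dvd_mul_iff_left Nat.card_pos.ne').1 h3)

/-- An automorphism of odd `r`-power order fixing a Sylow `r`-subgroup pointwise is inner. -/
theorem psl_inner {r : ℕ} [Fact r.Prime] (hr2 : r ≠ 2) (hrd : r ∣ Nat.card (PSL 2 F))
    (R : Sylow r (PSL 2 F)) (α : MulAut (PSL 2 F)) {k : ℕ} (hα : α ^ r ^ k = 1)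
    (hfix : ∀ x ∈ (R : Subgroup (PSL 2 F)), α x = x) : ∃ x, α = MulAut.conj x := by
  classical
  obtain ⟨g, σ, hg | ⟨h3, -⟩⟩ := exists_eq_semilin le_rfl α
  swap
  · omega
  subst hg
  have hσ : σ ^ r ^ k = 1 := by
    obtain ⟨h, hh⟩ := semilin_pow g σ (r ^ k)
    rw [hα] at hh
    exact ((semilin_eq_one_iff le_rfl _ _).1 hh.symm).1
  obtain rfl := field_part hr2 hrd R g σ hσ hfix
  let I : Subgroup (MulAut (PSL 2 F)) := (MulAut.conj : PSL 2 F →* MulAut (PSL 2 F)).range
  have h2 : semilin g (RingEquiv.refl F) ^ 2 ∈ I := by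
    rw [pow_two, semilin_mul]
    have := (mem_inn_iff (n := 2) le_rfl (g * glMap (RingEquiv.refl F) g)
      ((RingEquiv.refl F).trans (RingEquiv.refl F)) false (fun _ => rfl)).2
      ⟨rfl, rfl, GeneralLinearGroup.det g, by
        rw [map_mul, pow_two]
        congr 1⟩
    rwa [mkAut_false] at this
  obtain ⟨j, hj⟩ := ((Fact.out : r.Prime).odd_of_ne_two hr2).pow (n := k)
  rw [hj, pow_succ, pow_mul] at hα
  have h4 := inv_mem (pow_mem h2 j)
  rw [← eq_inv_of_mul_eq_one_right hα] at h4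
  obtain ⟨x, hx⟩ := h4
  exact ⟨x, hx.symm⟩

end CfsgLib.Walter.SylowFixed
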