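import Cfsg.Agent.Lib.Known.AutPSL.Structure
import Cfsg.Agent.Lib.Known.AutPSL.Field
import Mathlib.Algebra.CharP.Lemmas

/-!
Owner: helper4. Elements of odd order of `SL(2, F)` with trace in a subfield of order `Q`: their order divides
`Q ^ 2 - 1`, unless it is divisible by the characteristic.
-/

set_option autoImplicit false

namespace CfsgLib.Walter.SylowFixed

open Matrix
open CfsgLib.Known.AutPSL (SL)

variable {F : Type*} [Field F]

theorem mul_self_eq (A : SL 2 F) :
    (A : Matrix (Fin 2) (Fin 2) F) * A = (A : Matrix (Fin 2) (Fin 2) F).trace • (A : Matrix (Fin 2) (Fin 2) F) - 1 := by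
  have h := A.2
  rw [Matrix.det_fin_two] at h
  ext i j
  fin_cases i <;> fin_cases j <;> simp [Matrix.mul_apply, Fin.sum_univ_two, Matrix.trace_fin_two] <;>
    first | linear_combination -h | linear_combination h | ring

theorem exists_lin (K : Subfield F) {t : F} (ht : t ∈ K) {A : Matrix (Fin 2) (Fin 2) F}
    (hA : A * A = t • A - 1) : ∀ n : ℕ, ∃ a ∈ K, ∃ b ∈ K, A ^ n = a • (1 : Matrix (Fin 2) (Fin 2) F) + b • A
  | 0 => ⟨1, one_mem K, 0, zero_mem K, by simp⟩
  | n + 1 => by
    obtain ⟨a, ha, b, hb, h⟩ := exists_lin K ht hA n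
    refine ⟨-b, neg_mem hb, a + b * t, add_mem ha (mul_mem hb ht), ?_⟩
    rw [pow_succ, h, add_mul, smul_mul_assoc, smul_mul_assoc, one_mul, hA]
    module

theorem eq_one_of_two {A : SL 2 F} {p e : ℕ} [Fact p.Prime] (hodd : Odd (orderOf A))
    (hp : ¬ p ∣ orderOf A) (h : A ^ (2 * p ^ e) = 1) : A = 1 := by
  refine orderOf_eq_one_iff.1 (Nat.eq_one_of_dvd_coprimes (a := orderOf A) (b := 2 * p ^ e) ?_ dvd_rfl
    (orderOf_dvd_of_pow_eq_one h))
  exact (Nat.coprime_two_right.2 hodd).mul_right
    (((Fact.out : p.Prime).coprime_iff_not_dvd.2 hp).symm.pow_right e)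

/-- The main computation. -/
theorem pow_sq_card_sub_one [Fintype F] {p e : ℕ} [Fact p.Prime] [CharP F p] (K : Subfield F)
    (hK : Nat.card K = p ^ e) {A : SL 2 F} (htr : (A : Matrix (Fin 2) (Fin 2) F).trace ∈ K)
    (hodd : Odd (orderOf A)) (hp : ¬ p ∣ orderOf A) : A ^ ((p ^ e) ^ 2 - 1) = 1 := by
  classical
  haveI : ExpChar F p := ExpChar.prime Fact.out
  haveI : CharP (Matrix (Fin 2) (Fin 2) F) p := Matrix.charP p
  haveI : ExpChar (Matrix (Fin 2) (Fin 2) F) p := ExpChar.prime Fact.out
  set M : Matrix (Fin 2) (Fin 2) F := (A : Matrix (Fin 2) (Fin 2) F) with hMdef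
  set t := M.trace with ht
  have hA : M * M = t • M - 1 := mul_self_eq A
  have triv : A = 1 → A ^ ((p ^ e) ^ 2 - 1) = 1 := fun h => by rw [h, one_pow]
  haveI : Fintype K := Fintype.ofFinite K
  have hfix : ∀ a ∈ K, a ^ p ^ e = a := fun a ha => by
    have h := FiniteField.pow_card (⟨a, ha⟩ : K)
    rw [← Nat.card_eq_fintype_card, hK] at h
    simpa using congrArg Subtype.val h
  by_cases hns : ∃ c : F, M = c • 1
  · obtain ⟨c, hc⟩ := hns
    refine triv (eq_one_of_two (p := p) (e := 0) hodd hp ?_)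
    have h1 := A.2
    rw [show (A.1) = c • 1 from hc, det_smul, det_one, mul_one, Fintype.card_fin, sq] at h1
    refine Subtype.ext ?_
    rw [pow_zero, mul_one, Matrix.SpecialLinearGroup.coe_pow, pow_two]
    show M * M = 1
    rw [hc, smul_mul_smul_comm, h1, one_smul, one_mul]
  push Not at hns
  have uniq : ∀ c d : F, c • (1 : Matrix (Fin 2) (Fin 2) F) + d • M = 0 → c = 0 ∧ d = 0 := by
    intro c d h
    have hd : d = 0 := by
      by_contra hd
      refine hns (-(d⁻¹ * c)) ?_
      rw [add_comm, add_eq_zero_iff_eq_neg] at h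
      rw [← inv_smul_smul₀ hd M, h, smul_neg, smul_smul, neg_smul]
    refine ⟨?_, hd⟩
    rw [hd, zero_smul, add_zero] at h
    simpa using congrFun (congrFun h 0) 0
  by_cases h4 : t ^ 2 = 4
  · refine triv (eq_one_of_two (p := p) (e := 1) hodd hp (Subtype.ext ?_))
    have h0 : (M * M - 1) * (M * M - 1) = 0 := by
      rw [hA]
      simp only [sub_mul, mul_sub, smul_mul_assoc, mul_smul_comm, smul_sub, one_mul, mul_one, hA]
      match_scalars <;>
        first | linear_combination t * h4 | linear_combination -h4 | linear_combination -t * h4 | linear_combination h4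
    have h1 : (M * M - 1) ^ p ^ 1 = 0 := by
      rw [← Nat.add_sub_cancel' (show 2 ≤ p ^ 1 by rw [pow_one]; exact (Fact.out : p.Prime).two_le), pow_add,
        pow_two, h0, zero_mul]
    rw [sub_pow_char_pow_of_commute p 1 (Commute.one_right _), one_pow, sub_eq_zero] at h1
    rw [Matrix.SpecialLinearGroup.coe_pow, pow_mul, pow_two]
    exact h1
  obtain ⟨a, ha, b, hb, hB⟩ := exists_lin K htr hA (p ^ e)
  have hFr : ∀ c ∈ K, (c • M) ^ p ^ e = c • M ^ p ^ e := fun c hc => by rw [smul_pow, hfix c hc]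
  have hsq : M ^ p ^ e * M ^ p ^ e = t • M ^ p ^ e - 1 := by
    have h1 : (M * M) ^ p ^ e = t • M ^ p ^ e - 1 := by
      rw [hA, sub_pow_char_pow_of_commute p e (Commute.one_right _), one_pow, hFr t htr]
    rw [← (Commute.refl M).mul_pow]
    exact h1
  rw [hB] at hsq
  obtain ⟨e1, e2⟩ := uniq (a * a - b * b - t * a + 1) (2 * a * b + b * b * t - t * b) (by
    rw [← sub_eq_zero] at hsq
    rw [← hsq]
    simp only [add_mul, mul_add, smul_mul_assoc, mul_smul_comm, one_mul, mul_one, hA, smul_sub, smul_add]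
    module)
  have hb0 : b ≠ 0 := by
    intro hb0
    rw [hb0] at e1 hB
    have haa : a * a = 1 := by
      have h1 : (A ^ p ^ e : SL 2 F).1.det = 1 := (A ^ p ^ e).2
      rw [Matrix.SpecialLinearGroup.coe_pow, ← hMdef, hB, zero_smul, add_zero, det_smul, det_one, mul_one,
        Fintype.card_fin, sq] at h1
      exact h1
    have h1 : A = 1 := eq_one_of_two (p := p) (e := e) hodd hp (Subtype.ext (by
      rw [Matrix.SpecialLinearGroup.coe_pow, mul_comm, pow_mul, pow_two, ← hMdef, hB, zero_smul, add_zero,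
        smul_mul_smul_comm, haa, one_smul, one_mul]
      rfl))
    exact hns 1 (by rw [hMdef, h1, one_smul]; rfl)
  have e2' : 2 * a + b * t - t = 0 := by
    refine (mul_eq_zero.1 ?_).resolve_left hb0
    linear_combination e2
  have hbb : b * b = 1 := by
    have h : (t ^ 2 - 4) * (b * b - 1) = 0 := by
      linear_combination 4 * e1 - (2 * a + t * (1 - b) - 2 * t) * e2'
    rcases mul_eq_zero.1 h with h | h
    · exact absurd (sub_eq_zero.1 h) h4
    · exact sub_eq_zero.1 h
  have hab : a + b * a = 0 := by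
    rcases mul_self_eq_one_iff.1 hbb with h | h <;> rw [h] at e2' ⊢
    · linear_combination e2'
    · ring
  have hQQ : M ^ (p ^ e * p ^ e) = M := by
    rw [pow_mul, hB, add_pow_char_pow_of_commute p e ((Commute.one_left _).smul_left a |>.smul_right b),
      smul_pow, hfix a ha, one_pow, hFr b hb, hB, smul_add, smul_smul, smul_smul, ← add_assoc, ← add_smul,
      hab, zero_smul, zero_add, hbb, one_smul]
  have hpos : 1 ≤ (p ^ e) ^ 2 := Nat.one_le_pow _ _ (pow_pos (Fact.out : p.Prime).pos e)
  have h2 : A ^ ((p ^ e) ^ 2 - 1) * A = 1 * A := by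
    rw [← pow_succ, Nat.sub_add_cancel hpos, one_mul, pow_two]
    exact Subtype.ext (by rw [Matrix.SpecialLinearGroup.coe_pow]; exact hQQ)
  exact mul_right_cancel h2

end CfsgLib.Walter.SylowFixed
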