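import Cfsg.Agent.Lib.Recog.Walter.Sections.JR
import Cfsg.Agent.Lib.Recog.J1FromOrder.Centre
import Cfsg.Agent.Lib.Recog.J1Order.Local
import Cfsg.Agent.Lib.Classical.Dickson.ClassifyPlatonic
import Cfsg.Agent.Lib.Perm.SuborbitThree.AutSmall
import Cfsg.Agent.Lib.InvCentTwoNilp.Basic
import Cfsg.Prelude.Def_Sporadic

/-!
Owner: helper4. A simple group of the order of the first Janko group is of Janko–Ree type, and its automorphisms
of odd order are inner.
-/

set_option autoImplicit false
set_option linter.style.haveILetI false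

namespace CfsgLib.Walter.SylowFixed

open Subgroup
open CfsgLib.Recog.J1Order (Mdl A5)

universe u

variable {G : Type u} [Group G] [Finite G]

theorem alt_five_square (δ : MulAut A5) : ∃ x : A5, δ * δ = MulAut.conj x := by
  obtain ⟨π, rfl⟩ := (CfsgLib.ClassSizes.AlternatingAut.conjNormal_bijective (α := Fin 5) (by simp) (by simp)).2 δ
  exact ⟨⟨π * π, by rw [Equiv.Perm.mem_alternatingGroup, map_mul, Int.units_mul_self]⟩, by
    rw [← map_mul]; exact MulEquiv.ext fun a => Subtype.ext (by simp [MulAut.conjNormal_apply, mul_assoc])⟩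

/-- A homomorphism of `A₅` into a group of order two is trivial. -/
theorem alt_five_hom (f : A5 →* Multiplicative (ZMod 2)) (a : A5) : f a = 1 := by
  haveI : IsSimpleGroup A5 := alternatingGroup.isSimpleGroup_five
  rcases (MonoidHom.normal_ker f).eq_bot_or_eq_top with h | h
  · exfalso
    have h1 := Nat.card_le_card_of_injective f ((MonoidHom.ker_eq_bot_iff f).1 h)
    rw [nat_card_alternatingGroup, Nat.card_eq_fintype_card (α := Multiplicative (ZMod 2)),
      Fintype.card_multiplicative, ZMod.card, Nat.card_eq_fintype_card, Fintype.card_fin] at h1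
    norm_num [Nat.factorial] at h1
  · exact (MonoidHom.mem_ker).1 (h ▸ Subgroup.mem_top a)

theorem isJRType_of_isJ1 (h : Cfsg.IsJ1 G) :
    IsJRType G ∧ ∃ t : G, orderOf t = 2 ∧ Nonempty (centralizer ({t} : Set G) ≃* Mdl) ∧
      ∀ u : G, orderOf u = 2 → IsConj t u := by
  haveI := h.1
  haveI : Fact (Nat.Prime 2) := ⟨Nat.prime_two⟩
  obtain ⟨t, ⟨ht, P, htP, hPc⟩, ⟨e⟩⟩ := CfsgLib.Recog.J1FromOrder.exists_local h.2
  obtain ⟨-, hfus, -, -⟩ := CfsgLib.Recog.J1Order.fusion t ht ⟨P, htP, hPc⟩ e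
  have hcomm : ∀ (S : Sylow 2 G), ∀ a ∈ (S : Subgroup G), ∀ b ∈ (S : Subgroup G), a * b = b * a :=
    fun S => CfsgLib.Recog.J1FromOrder.two_comm h.2 S
  haveI : Fact (Nat.Prime 5) := ⟨by norm_num⟩
  obtain ⟨e5⟩ := CfsgLib.Classical.Dickson.psl_four_five_equiv (K := ZMod 5) (Or.inr (ZMod.card 5))
  refine ⟨⟨h.1, fun S => ⟨⟨fun a b => Subtype.ext (hcomm S _ a.2 _ b.2)⟩⟩, fun hle => ?_, fun u hu => ?_⟩,
    t, ht, ⟨e⟩, hfus⟩
  · have h1 := hle (P : Subgroup G) ⟨⟨fun a b => Subtype.ext (hcomm P _ a.2 _ b.2)⟩⟩ fun a ha => by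
      rw [pow_two]; exact CfsgLib.Recog.J1FromOrder.two_square h.2 P a ha
    have h2 := CfsgLib.Recog.J1FromOrder.card_sylow_two h.2 P
    rw [h2] at h1
    norm_num at h1
  · obtain ⟨g, hg⟩ := isConj_iff.1 (hfus u hu)
    -- transport of the centraliser
    have hmap : centralizer ({u} : Set G) = (centralizer ({t} : Set G)).map (MulAut.conj g).toMonoidHom := by
      rw [← hg, CfsgLib.InvCent.centralizer_conj]
    let c : centralizer ({u} : Set G) ≃* centralizer ({t} : Set G) :=
      (MulEquiv.subgroupCongr hmap).trans ((MulAut.conj g).subgroupMap (centralizer ({t} : Set G))).symm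
    set e' : centralizer ({u} : Set G) ≃* Mdl := c.trans e
    have hu' : e' ⟨u, mem_centralizer_singleton_iff.2 rfl⟩ = (Multiplicative.ofAdd 1, 1) :=
      CfsgLib.Recog.J1Order.e_apply_t u hu e'
    let ι : A5 →* G := (centralizer ({u} : Set G)).subtype.comp
      (e'.symm.toMonoidHom.comp (MonoidHom.inr (Multiplicative (ZMod 2)) A5))
    have hι : Function.Injective ι := Subtype.val_injective.comp
      (e'.symm.injective.comp fun a b hab => congrArg Prod.snd hab)
    have hle : ι.range ≤ centralizer ({u} : Set G) := by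
      rintro _ ⟨a, rfl⟩; exact (e'.symm (1, a)).2
    refine ⟨ι.range, ⟨zpowers_le.2 (mem_centralizer_singleton_iff.2 rfl), hle, fun a ha b hb => ?_, ?_, ?_⟩,
      ZMod 5, inferInstance, inferInstance, by rw [ZMod.card], Or.inr (by rw [ZMod.card]), ⊤, inferInstance,
      ⟨topEquiv.trans ((MonoidHom.ofInjective hι).symm.trans e5)⟩, ?_⟩
    · obtain ⟨k, rfl⟩ := mem_zpowers_iff.1 ha
      exact (Commute.zpow_left (mem_centralizer_singleton_iff.1 (hle hb)).symm k).eq
    · refine (eq_bot_iff_forall _).2 fun x hx => ?_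
      obtain ⟨k, rfl⟩ := mem_zpowers_iff.1 hx.1
      obtain ⟨a, ha⟩ := hx.2
      have h1 : e' (⟨u, mem_centralizer_singleton_iff.2 rfl⟩ ^ k) = (1, a) := by
        rw [← e'.eq_symm_apply]
        exact Subtype.ext ha.symm
      rw [map_zpow, hu'] at h1
      have h2 : (1 : A5) ^ k = a := congrArg Prod.snd h1
      rw [one_zpow] at h2
      rw [← ha, ← h2, map_one]
    · refine le_antisymm (sup_le (zpowers_le.2 (mem_centralizer_singleton_iff.2 rfl)) hle) fun x hx => ?_
      obtain ⟨a, b, hab⟩ : ∃ a b, e' ⟨x, hx⟩ = (a, b) := ⟨_, _, rfl⟩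
      rcases (CfsgLib.Recog.J1FromOrder.two_elems).1 a with rfl | rfl
      · exact mem_sup_right ⟨b, congrArg Subtype.val (e'.symm_apply_eq.2 hab.symm)⟩
      · have h1 : (⟨x, hx⟩ : centralizer ({u} : Set G)) =
            ⟨u, mem_centralizer_singleton_iff.2 rfl⟩ * e'.symm (1, b) := e'.injective (by
          rw [map_mul, hu', e'.apply_symm_apply, hab, Prod.mk_mul_mk, mul_one, one_mul])
        rw [show x = u * ι b from congrArg Subtype.val h1]
        exact mul_mem (mem_sup_left (mem_zpowers u)) (mem_sup_right ⟨b, rfl⟩)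
    · refine (eq_bot_iff_forall _).2 fun y hy => ?_
      haveI : IsSimpleGroup A5 := alternatingGroup.isSimpleGroup_five
      obtain ⟨a, ha⟩ := (MonoidHom.ofInjective hι).surjective y
      have hc : a ∈ center A5 := mem_center_iff.2 fun b => hι (by
        rw [map_mul, map_mul]
        have := congrArg Subtype.val (mem_centralizer_iff.1 hy ⟨ι b, b, rfl⟩ (mem_top _))
        rw [← ha] at this
        exact this)
      rw [alternatingGroup.center_eq_bot (by simp), mem_bot] at hc
      rw [← ha, hc, map_one]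

/-- Automorphisms of odd order of a simple group of the order of `J₁` are inner. -/
theorem j1_inner (h : Cfsg.IsJ1 G) (α : MulAut G) (hα : Odd (orderOf α)) : ∃ x, α = MulAut.conj x := by
  haveI := h.1
  obtain ⟨hJR, t, ht, ⟨e⟩, hfus⟩ := isJRType_of_isJ1 h
  let I : Subgroup (MulAut G) := (MulAut.conj : G →* MulAut G).range
  haveI hI : I.Normal := ⟨by rintro _ ⟨x, rfl⟩ γ; exact ⟨γ x, by ext y; simp⟩⟩
  obtain ⟨g, hg⟩ := isConj_iff.1 (hfus (α t) ((MulEquiv.orderOf_eq α t).trans ht))
  set β : MulAut G := MulAut.conj g⁻¹ * α with hβ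
  have hβt : β t = t := by
    rw [hβ, MulAut.mul_apply, MulAut.conj_apply, ← hg]; group
  set C := centralizer ({t} : Set G) with hC
  have hCm : C.map β.toMonoidHom = C := by
    rw [hC]
    ext y
    rw [mem_map_equiv, mem_centralizer_singleton_iff, mem_centralizer_singleton_iff]
    conv_rhs => rw [← hβt]
    constructor
    · intro hy
      simpa using congrArg β hy
    · intro hy
      exact β.injective (by simpa using hy)
  let βC : MulAut C := (β.subgroupMap C).trans (MulEquiv.subgroupCongr hCm)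
  have hβC : ∀ y : C, ((βC y : C) : G) = β y := fun y => rfl
  let φ : MulAut Mdl := (e.symm.trans βC).trans e
  have htM := CfsgLib.Recog.J1Order.e_apply_t t ht e
  have hφt : φ (Multiplicative.ofAdd 1, 1) = (Multiplicative.ofAdd 1, 1) := by
    have h1 : βC ⟨t, mem_centralizer_singleton_iff.2 rfl⟩ = ⟨t, mem_centralizer_singleton_iff.2 rfl⟩ :=
      Subtype.ext hβt
    show e (βC (e.symm _)) = _
    rw [← htM, e.symm_apply_apply, h1]
  have hfst : ∀ a : A5, (φ (1, a)).1 = 1 :=
    alt_five_hom ((MonoidHom.fst _ _).comp (φ.toMonoidHom.comp (MonoidHom.inr _ _)))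
  let f : A5 →* A5 := (MonoidHom.snd _ _).comp (φ.toMonoidHom.comp (MonoidHom.inr _ _))
  have hf : ∀ a, φ (1, a) = (1, f a) := fun a => Prod.ext (hfst a) rfl
  have hfinj : Function.Injective f := fun a b hab => congrArg Prod.snd
    (φ.injective (show φ (1, a) = φ (1, b) by rw [hf, hf, hab]))
  obtain ⟨x, hx⟩ := alt_five_square (MulEquiv.ofBijective f (Finite.injective_iff_bijective.1 hfinj))
  have hff : ∀ a, f (f a) = x * a * x⁻¹ := fun a => by
    have := congrArg (fun δ : MulAut A5 => δ a) hx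
    simpa using this
  set y : C := e.symm (1, x) with hy
  set γ : MulAut G := MulAut.conj (y : G)⁻¹ * (β * β) with hγ
  have hC2 : ∀ m : Mdl, φ (φ m) = (1, x) * m * (1, x)⁻¹ := by
    rintro ⟨a, b⟩
    have hm : ((a, b) : Mdl) = (a, 1) * (1, b) := by simp
    rw [hm, map_mul, map_mul, hf, hf, hff]
    rcases (CfsgLib.Recog.J1FromOrder.two_elems).1 a with rfl | rfl
    · rw [show ((1, 1) : Mdl) = 1 from rfl, map_one, map_one]
      simp
    · rw [hφt, hφt]
      simp
  have hfix : ∀ c ∈ C, γ c = c := by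
    intro c hc
    have h1 : βC (βC ⟨c, hc⟩) = y * ⟨c, hc⟩ * y⁻¹ := by
      refine e.injective ?_
      have := hC2 (e ⟨c, hc⟩)
      simp only [φ, MulEquiv.trans_apply, e.symm_apply_apply] at this
      rw [this, map_mul, map_mul, map_inv, hy, e.apply_symm_apply]
    have h2 : β (β c) = (y : G) * c * (y : G)⁻¹ := congrArg Subtype.val h1
    rw [hγ, MulAut.mul_apply, MulAut.mul_apply, MulAut.conj_apply, h2]
    group
  -- modulo the inner automorphisms
  let π := QuotientGroup.mk' I
  have hinn : ∀ z : G, π (MulAut.conj z) = 1 := fun z => (QuotientGroup.eq_one_iff _).2 ⟨z, rfl⟩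
  have hπ : π γ = π α ^ 2 := by rw [hγ, hβ, map_mul, map_mul, map_mul, hinn, hinn, one_mul, one_mul, ← pow_two]
  obtain ⟨i, m, hm, hord⟩ := Nat.exists_eq_two_pow_mul_odd (n := orderOf γ) (orderOf_pos γ).ne'
  have h1 : γ ^ 2 ^ i = 1 := Sections.jr_eq_one_of_fixes hJR ht _
    (hm.of_dvd_nat (orderOf_dvd_of_pow_eq_one (by rw [← pow_mul, ← hord, pow_orderOf_eq_one]))) fun c hc => by
      generalize 2 ^ i = n
      induction n with
      | zero => simp
      | succ n ih => rw [pow_succ', MulAut.mul_apply, ih, hfix c hc]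
  have h2 : π α ^ (2 * 2 ^ i) = 1 := by rw [pow_mul, ← hπ, ← map_pow, h1, map_one]
  have h3 : π α = 1 := orderOf_eq_one_iff.1 (Nat.eq_one_of_dvd_coprimes (a := orderOf α) (b := 2 * 2 ^ i)
    (((Nat.coprime_two_right.2 hα).mul_right ((Nat.coprime_two_right.2 hα).pow_right i)))
    (orderOf_map_dvd π α) (orderOf_dvd_of_pow_eq_one h2))
  obtain ⟨z, hz⟩ := (QuotientGroup.eq_one_iff _).1 h3
  exact ⟨z, hz.symm⟩

end CfsgLib.Walter.SylowFixed
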