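import Cfsg.Agent.Lib.Recog.Walter.SylowFixed.Linear
import Cfsg.Agent.Lib.Recog.Walter.SylowFixed.Janko
import Cfsg.Agent.Lib.Recog.Walter.Sections.AutInner
import Cfsg.Agent.Lib.Recog.Walter.List
import Cfsg.Agent.Lib.Recog.JankoThompson.Ward.Ree

/-!
Owner: helper4. The statement S2555 from the list of simple groups with abelian Sylow 2-subgroups.
-/

set_option autoImplicit false
set_option linter.style.haveILetI false

namespace CfsgLib.Walter.SylowFixed

open Subgroup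
open CfsgLib.Known.AutPSL (PSL)

universe u

/-- Transport of the theorem for `PSL(2, q)`. -/
theorem inner_of_equiv {G : Type u} [Group G] {F : Type} [Field F] [Fintype F] (e : G ≃* PSL 2 F) {r : ℕ}
    [Fact r.Prime] (hr2 : r ≠ 2) (hr : r ∣ Nat.card G) (R : Sylow r G) (α : MulAut G) {k : ℕ}
    (hα : α ^ r ^ k = 1) (hR : ∀ x ∈ (R : Subgroup G), α x = x) : ∃ g, α = MulAut.conj g := by
  haveI : Finite G := Finite.of_equiv _ e.toEquiv.symm
  let α' : MulAut (PSL 2 F) := MulAut.congr e α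
  obtain ⟨y, hy⟩ := psl_inner hr2 (Nat.card_congr e.toEquiv ▸ hr)
    (Sylow.mapSurjective (f := e.toMonoidHom) e.surjective R) α' (k := k)
    (by rw [show α' = MulAut.congr e α from rfl, ← map_pow, hα, map_one]) (by
      rintro _ ⟨x, hx, rfl⟩
      show e (α (e.symm (e x))) = e x
      rw [e.symm_apply_apply, hR x hx])
  refine ⟨e.symm y, MulEquiv.ext fun x => e.injective ?_⟩
  have := congrArg (fun f : MulAut (PSL 2 F) => f (e x)) hy
  change e (α (e.symm (e x))) = y * e x * y⁻¹ at this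
  rw [e.symm_apply_apply] at this
  rw [this, MulAut.conj_apply]
  simp

/-- **S2555** from the list. -/
theorem result_of_walterList (hL : WalterList.{u}) {G : Type u} [Group G] [Finite G] [IsSimpleGroup G]
    (hna : ¬ IsMulCommutative G) (hA : ∀ (p : ℕ), p.Prime → ∀ (P : Sylow p G), IsMulCommutative ↥P)
    (r : ℕ) [Fact r.Prime] (hr : r ∣ Nat.card G) (α : G ≃* G) (k : ℕ) (hα : orderOf α = r ^ k)
    (R : Sylow r G) (hR : ∀ x ∈ (R : Subgroup G), α x = x) :
    ∃ g : G, ∀ x : G, α x = g * x * g⁻¹ := by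
  suffices h : ∃ g : G, (α : MulAut G) = MulAut.conj g by
    obtain ⟨g, hg⟩ := h
    exact ⟨g, fun x => by rw [show α x = (α : MulAut G) x from rfl, hg, MulAut.conj_apply]⟩
  haveI : Fact (Nat.Prime 2) := ⟨Nat.prime_two⟩
  by_cases hr2 : r = 2
  · subst hr2
    obtain ⟨x, -, hx⟩ := Sections.aut_inner hna R (hA 2 Nat.prime_two R) α ⟨k, hα⟩ hR
    exact ⟨x, hx⟩
  have hpow : (α : MulAut G) ^ r ^ k = 1 := hα ▸ pow_orderOf_eq_one (α : MulAut G)
  have hab : CfsgLib.AbelianSolvCent.AbSylow G := fun P => hA 2 Nat.prime_two P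
  rcases hL G hna hab with ⟨n, -, F, iF, iFt, -, ⟨e⟩⟩ | ⟨F, iF, iFt, -, -, ⟨e⟩⟩ | hJ | ⟨F, iF, iFt, -, ⟨d⟩⟩
  · exact inner_of_equiv e hr2 hr R α hpow hR
  · exact inner_of_equiv e hr2 hr R α hpow hR
  · exact j1_inner hJ α (hα ▸ ((Fact.out : r.Prime).odd_of_ne_two hr2).pow)
  · obtain ⟨P, hP⟩ := CfsgLib.Recog.JankoThompson.exists_nonabelian_sylow_three
      (fun P a b => (hab P).is_comm.comm a b) d
    exact absurd (hA 3 Nat.prime_three P) hP

end CfsgLib.Walter.SylowFixed
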